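import Groth.Agent.ProjAmpLib.Main
import Groth.Agent.ProjNatLib.Proj
import Groth.Agent.ProjNatLib.AmpPush
import Groth.Agent.RelFlatLib.SmoothAmp

/-!
# Amplitude along closed subschemes of `P^r` over an affine base
-/

set_option autoImplicit false
set_option backward.isDefEq.respectTransparency false
set_option backward.isDefEq.respectTransparency.types false
set_option linter.style.haveILetI false
universe u

open CategoryTheory CategoryTheory.Limits AlgebraicGeometry
open Groth.Agent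

attribute [local instance] HasDerivedCategory.standard

noncomputable section

namespace ProjAmpLib

variable {X Y : Scheme.{u}}

/-- The direct image along a closed immersion preserves `IsLE`. -/
theorem isLE_rpush_closed {P : Scheme.{u}} (i : X ⟶ P) [IsClosedImmersion i] [DCoh.HasRpush i]
    (K : DCoh.D X) (a : ℤ) [K.IsLE a] : ((DCoh.Rpush i).obj K).IsLE a := by
  obtain ⟨er⟩ := Dual3Lib.nonempty_rpush_pushD i K
  refine (DerivedCategory.isLE_iff _ _).2 fun j hj => ?_
  exact ((Scheme.Modules.pushforward i).map_isZero (DerivedCategory.isZero_of_isLE K a j hj)).of_iso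
    ((DerivedCategory.homologyFunctor P.Modules j).mapIso er ≪≫
      (Groth.Agent.DerLib.ExactHomology.homologyIso (Scheme.Modules.pushforward i) j).app K)

/-- `R^p f_* M = 0` for `p > r` on closed subschemes of `P^r` over an affine base. -/
theorem isZero_HD_rpush_comp [IsAffine Y] (r : ℕ) (i : X ⟶ CohB1.ProjSpaceOver r Y) [IsClosedImmersion i]
    [DCoh.HasRpush (i ≫ CohB1.ProjSpaceOver.toBase r Y)] (M : X.Modules) (hM : Coh.IsQCoh M) (p : ℤ)
    (hp : (r : ℤ) < p) :
    IsZero (DCoh.HD ((DCoh.Rpush (i ≫ CohB1.ProjSpaceOver.toBase r Y)).obj (DCoh.inD X M)) p) := by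
  let g := CohB1.ProjSpaceOver.toBase r Y
  haveI := DCohRestrLib.hasRpush g
  haveI := DCohRestrLib.hasRpush i
  obtain ⟨ec⟩ := Dual3Lib.nonempty_rpush_comp i g (DCoh.inD X M)
  let K := (DCoh.Rpush i).obj (DCoh.inD X M)
  haveI : (DCoh.inD X M).IsLE 0 := inferInstanceAs (((DerivedCategory.singleFunctor X.Modules 0).obj M).IsLE 0)
  haveI : (DCoh.inD X M).IsGE 0 := inferInstanceAs (((DerivedCategory.singleFunctor X.Modules 0).obj M).IsGE 0)
  haveI : K.IsLE 0 := isLE_rpush_closed i _ 0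
  haveI : K.IsGE 0 := QRlimLib.rpush_isGE i _ 0
  have hq : DCoh.IsQCohD K := @QRlimLib.isQCohD_rpush_single _ _ i _ _ _ M hM
  haveI := isLE_rpush r Y K hq 0 0
  exact (DerivedCategory.isZero_of_isLE ((DCoh.Rpush g).obj K) (0 + (r : ℤ)) p (by omega)).of_iso
    ((DerivedCategory.homologyFunctor Y.Modules p).mapIso ec).symm

/-- Perfect amplitude of the direct image. -/
theorem perfectAmp_rpush [IsAffine Y] (r : ℕ) (i : X ⟶ CohB1.ProjSpaceOver r Y) [IsClosedImmersion i]
    [DCoh.HasRpush i] [DCoh.HasRpush (i ≫ CohB1.ProjSpaceOver.toBase r Y)] (E : DCoh.D X) (a b : ℤ)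
    (hE : KSix.HasPerfectAmplitudeIn a b ((DCoh.Rpush i).obj E)) :
    KSix.HasPerfectAmplitudeIn a (b + r) ((DCoh.Rpush (i ≫ CohB1.ProjSpaceOver.toBase r Y)).obj E) := by
  let g := CohB1.ProjSpaceOver.toBase r Y
  haveI : Smooth g := RTrivLib.smooth_toBase r Y
  haveI : IsProper g := ChowLib.isProper_toBase r Y
  haveI : IsProper (i ≫ g) := inferInstance
  let F := DerivedCategory.Q.objPreimage E
  let eF : DCoh.toD X F ≅ E := DerivedCategory.Q.objObjPreimageIso E
  obtain ⟨ep⟩ := ImmPCLib.pushD_toD i F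
  obtain ⟨er⟩ := Dual3Lib.nonempty_rpush_pushD i (DCoh.toD X F)
  let eP := (DCoh.Rpush i).mapIso eF.symm ≪≫ er ≪≫ ep
  have hflat := (RelFlatLib.flatAmp_iff_ampD _ _ _).2 fun x =>
    RelFlatLib.ampD_of_iso (𝟙 _) eP ((RelFlatLib.flatAmp_iff_ampD _ _ _).1 (RelFlatLib.flatAmp_of_perfectAmp hE) x)
  have hrelF : DerSch.IsPseudoCoherentRelAll (i ≫ g) (DCoh.toD X F) := fun m =>
    (RelPCSchLib.rel_immersion_comp_iff i g m F).1.2
      (PerfLib.isPC_of_iso eP (RelFlatLib.isPC_of_isPerfect (RelFlatLib.isPerfect_of_perfectAmp hE) m))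
  have hamp : DerSch.HasTorAmplitude (i ≫ g) a b F := RelFlatLib.amp_of_flatAmp_push i g hflat
  refine RelFlatLib.perfectAmp_of_pc_amp'
    (ProjNatLib.isPC_rpush_proj r i E (fun k => RelPCSchLib.rel_of_iso _ eF (hrelF k)) _) ?_
  refine (RelFlatLib.flatAmp_iff_ampD _ _ _).2 fun y => RelFlatLib.ampD_of_iso (𝟙 Y)
    ((DCoh.Rpush (i ≫ g)).mapIso eF) ?_
  have hamp' : DerSch.HasTorAmplitude ((i ≫ g) ≫ 𝟙 Y) a b F := by rwa [Category.comp_id]
  exact ProjNatLib.amp_rpush (i ≫ g) (𝟙 Y) r (fun M hM p hp => isZero_HD_rpush_comp r i M hM p hp) F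
    (ProjNatLib.isQCohD_of_rel _ hrelF) hamp' y

end ProjAmpLib
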