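import Groth.Agent.QRlimLib.Vanishing
import Groth.Agent.RelPCSchLib.Main
import Groth.Agent.RpushLib.Vanish
import Groth.Agent.EulerRpushLib.Exceptional
import Groth.Agent.ChowLib.Embed
import Groth.Agent.IndCohLib.Bound
import Groth.Agent.QCohLib.Bound

/-!
# Cohomological amplitude of direct images along `P^r_Y ⟶ Y`
-/

set_option autoImplicit false
set_option backward.isDefEq.respectTransparency false
set_option backward.isDefEq.respectTransparency.types false
set_option linter.style.haveILetI false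
universe u

open CategoryTheory CategoryTheory.Limits AlgebraicGeometry TopologicalSpace
open ChowLib (toPZ Dplus)

attribute [local instance] HasDerivedCategory.standard

noncomputable section

namespace ProjAmpLib

section Cover

variable (r : ℕ) (Y : Scheme.{u})

/-- The standard opens of `P^r_Y` over an open of `Y`. -/
def pc (W : Y.Opens) (i : Fin (r + 1)) : (CohB1.ProjSpaceOver r Y).Opens :=
  toPZ r Y ⁻¹ᵁ Dplus i ⊓ CohB1.ProjSpaceOver.toBase r Y ⁻¹ᵁ W

theorem sup_pc (W : Y.Opens) :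
    Finset.univ.sup (pc r Y W) = CohB1.ProjSpaceOver.toBase r Y ⁻¹ᵁ W := by
  rw [Finset.sup_univ_eq_iSup]
  change (⨆ i : Fin (r + 1), toPZ r Y ⁻¹ᵁ Dplus i ⊓ CohB1.ProjSpaceOver.toBase r Y ⁻¹ᵁ W) = _
  simp only [← iSup_inf_eq, ← Scheme.Hom.preimage_iSup, ChowLib.iSup_Dplus]
  exact top_inf_eq _

theorem isAffineOpen_inf_pc [IsAffine Y] (W : Y.Opens) (hW : IsAffineOpen W)
    (t : Finset (Fin (r + 1))) (ht : t.Nonempty) : IsAffineOpen (t.inf (pc r Y W)) := by
  haveI : IsSeparated (CohB1.ProjSpaceOver.toBase r Y) := (ChowLib.isProper_toBase r Y).toIsSeparated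
  haveI : (CohB1.ProjSpaceOver r Y).IsSeparated :=
    ⟨by rw [← terminal.comp_from (CohB1.ProjSpaceOver.toBase r Y)]; infer_instance⟩
  haveI : IsAffineHom (toPZ r Y) := MorphismProperty.pullback_fst _ _ (isAffineHom_of_isAffine _)
  induction ht using Finset.Nonempty.cons_induction with
  | singleton a =>
    rw [Finset.inf_singleton]
    exact IndCohLib.isAffineOpen_inf_preimage (CohB1.ProjSpaceOver.toBase r Y) (isAffineOpen_top Y) hW le_top
      ((ChowLib.isAffineOpen_Dplus a).preimage (toPZ r Y)) le_top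
  | cons a s ha _ ih =>
    rw [Finset.inf_cons]
    exact (IndCohLib.isAffineOpen_inf_preimage (CohB1.ProjSpaceOver.toBase r Y) (isAffineOpen_top Y) hW le_top
      ((ChowLib.isAffineOpen_Dplus a).preimage (toPZ r Y)) le_top).inf ih

/-- `H^p` of a quasi-coherent module on `P^r` over an affine open vanishes for `p > r`. -/
theorem subsingleton_HHon_preimage [IsAffine Y] (M : (CohB1.ProjSpaceOver r Y).Modules) [Coh.IsQCoh M]
    (W : Y.Opens) (hW : IsAffineOpen W) (p : ℕ) (hp : r < p) :
    Subsingleton (Coh.HHon (CohB1.ProjSpaceOver r Y) M (CohB1.ProjSpaceOver.toBase r Y ⁻¹ᵁ W) p) := by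
  have h := QCohLib.subsingleton_HU_finsetSup M Finset.univ (pc r Y W)
    (fun t ht _ => isAffineOpen_inf_pc r Y W hW t ht) p (by simpa using hp)
  rw [sup_pc, ← Scheme.Opens.ι_image_top (CohB1.ProjSpaceOver.toBase r Y ⁻¹ᵁ W)] at h
  obtain ⟨e⟩ := QCohLib.nonempty_HU_restrict (CohB1.ProjSpaceOver.toBase r Y ⁻¹ᵁ W).ι M p ⊤
  exact (QCohLib.subsingleton_H_iff _ _).mpr e.toEquiv.subsingleton

/-- `R^p f_* M = 0` for `p > r` on `P^r` over an affine base. -/
theorem isZero_rpush [IsAffine Y] [HasInjectiveResolutions (CohB1.ProjSpaceOver r Y).Modules]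
    (M : (CohB1.ProjSpaceOver r Y).Modules) [Coh.IsQCoh M] (p : ℕ) (hp : r < p) :
    IsZero ((Coh.Rpush (CohB1.ProjSpaceOver.toBase r Y) p).obj M) := by
  haveI : IsProper (CohB1.ProjSpaceOver.toBase r Y) := ChowLib.isProper_toBase r Y
  exact (EulerRpushLib.isZero_rpushAb_iff _ M p).1 (RpushLib.isZero_rpushAb _ M p fun y =>
    ⟨⊤, trivial, fun W hW _ => subsingleton_HHon_preimage r Y M W hW p hp⟩)

/-- `Rf_*` raises the amplitude by at most `r`, on bounded objects with quasi-coherent cohomology. -/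
theorem isLE_rpush [IsAffine Y] [DCoh.HasRpush (CohB1.ProjSpaceOver.toBase r Y)]
    (E : DCoh.D (CohB1.ProjSpaceOver r Y)) (hq : DCoh.IsQCohD E) (a b : ℤ) [E.IsGE b] [E.IsLE a] :
    ((DCoh.Rpush (CohB1.ProjSpaceOver.toBase r Y)).obj E).IsLE (a + r) := by
  let X := CohB1.ProjSpaceOver r Y
  let f : X ⟶ Y := CohB1.ProjSpaceOver.toBase r Y
  haveI : EnoughInjectives X.Modules := IsGrothendieckAbelian.enoughInjectives.{u}
  let α := (DCoh.pushKh f).totalRightDerivedUnit DerivedCategory.Qh
      (HomotopyCategory.quasiIso X.Modules (ComplexShape.up ℤ))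
  rw [DerivedCategory.isLE_iff]
  intro i hi
  haveI : E.IsGE (min a b) := DerivedCategory.TStructure.t.isGE_of_ge E (min a b) b (min_le_right _ _)
  obtain ⟨k, hk⟩ := Int.le.dest (show min a b ≤ a from min_le_left _ _)
  haveI : E.IsLE (min a b + k) := by rw [hk]; infer_instance
  obtain ⟨_, _⟩ := Groth.Agent.DerLib.KInjDerived.exists_isTriangulated_map KFlatLib.enoughKInj_modules
    (Scheme.Modules.pushforward f) (DCoh.Rpush f) α
  refine QRlimLib.isZero_homology_of_qcoh_single (DCoh.Rpush f) ((r : ℤ) + 1) (fun M hM j hj => ?_)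
    (min a b) k E hq i (by omega)
  haveI := hM
  exact QRlimLib.isZero_rightDerived_single (Scheme.Modules.pushforward f) (DCoh.Rpush f) α M (r + 1)
    (fun p hp => isZero_rpush r Y M p (by omega)) j (by push_cast; exact hj)

/-- A pseudo-coherent object has quasi-coherent cohomology. -/
theorem isQCohD_of_isPC {X : Scheme.{u}} {E : DCoh.D X} (hE : ∀ m : ℤ, DCoh.IsPseudoCoherentD m E) :
    DCoh.IsQCohD E := fun i => (Groth.Agent.RelPCSchLib.isQCoh_HD_of_isPC (hE (i - 1))).1 i (by omega)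

end Cover

end ProjAmpLib
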